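import Mathlib.RingTheory.PowerSeries.Exp
import Mathlib.RingTheory.PowerSeries.Derivative
import Mathlib.RingTheory.PowerSeries.WellKnown
import Mathlib.FieldTheory.RatFunc.AsPolynomial
import Mathlib.FieldTheory.IsAlgClosed.AlgebraicClosure
import Mathlib.Algebra.MonoidAlgebra.Support
import Mathlib.Algebra.CharZero.Infinite
import Mathlib.Tactic

/-!
# Exponential sums and rational functions

* `exists_logDeriv` : over an algebraically closed field, `X P' / P = a - ∑ α X / (1 - α X)`.
* `eq_zero_of_ev` : independence of the sequences `v ↦ λ ^ v`, `v ≥ v₀`.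
* `exists_laurent` : a rational function whose values at `q ^ v` form an integral exponential sum is a Laurent
  polynomial with integer coefficients.
-/

set_option autoImplicit false

open PowerSeries

namespace K221.ExpSum

section LogDeriv

variable {K : Type*} [Field K]

/-- `∑_{n ≥ 1} α ^ n X ^ n`. -/
noncomputable def geo (α : K) : K⟦X⟧ := PowerSeries.mk fun n => if n = 0 then 0 else α ^ n

theorem coeff_geo (α : K) (n : ℕ) (hn : n ≠ 0) : coeff n (geo α) = α ^ n := by
  rw [geo, coeff_mk, if_neg hn]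

theorem one_sub_mul_geo (α : K) : (1 - C α * X) * geo α = C α * X := by
  ext n
  rw [sub_mul, one_mul, map_sub, mul_assoc, coeff_C_mul, coeff_C_mul]
  rcases n with _ | n
  · rw [coeff_zero_X_mul, geo, coeff_mk]
    simp
  · rw [coeff_succ_X_mul, coeff_X]
    rcases n with _ | n
    · simp [geo]
    · rw [coeff_geo _ _ (by omega), coeff_geo _ _ (by omega)]
      have : ¬ (n + 1 + 1 = 1) := by omega
      rw [if_neg this]
      ring

/-- `X P' = P (a - ∑_{α ∈ s} α X / (1 - α X))`. -/
def Good (P : Polynomial K) : Prop :=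
  ∃ (a : ℕ) (s : Multiset Kˣ), (X : K⟦X⟧) * (Polynomial.derivative P : Polynomial K) =
    (P : K⟦X⟧) * (C (a : K) - (s.map fun α : Kˣ => geo (α : K)).sum)

theorem Good.mul {P Q : Polynomial K} (hP : Good P) (hQ : Good Q) : Good (P * Q) := by
  obtain ⟨a, s, h⟩ := hP
  obtain ⟨b, t, h'⟩ := hQ
  refine ⟨a + b, s + t, ?_⟩
  rw [Polynomial.derivative_mul, Multiset.map_add, Multiset.sum_add, Nat.cast_add, map_add]
  push_cast
  linear_combination (Q : K⟦X⟧) * h + (P : K⟦X⟧) * h'

theorem good_C (c : K) : Good (Polynomial.C c) := by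
  refine ⟨0, 0, ?_⟩
  simp

theorem good_X_sub_C (r : K) : Good (Polynomial.X - Polynomial.C r) := by
  by_cases hr : r = 0
  · refine ⟨1, 0, ?_⟩
    subst hr
    simp
  · refine ⟨0, {(Units.mk0 r hr)⁻¹}, ?_⟩
    have h := one_sub_mul_geo (r⁻¹)
    have h1 : (C r : K⟦X⟧) * C r⁻¹ = 1 := by rw [← map_mul, mul_inv_cancel₀ hr, map_one]
    simp only [Polynomial.derivative_sub, Polynomial.derivative_X, Polynomial.derivative_C, sub_zero,
      Polynomial.coe_one, mul_one, Polynomial.coe_sub, Polynomial.coe_X, Polynomial.coe_C, Nat.cast_zero,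
      map_zero, zero_sub, Multiset.map_singleton, Multiset.sum_singleton, Units.val_inv_eq_inv_val, Units.val_mk0]
    have h2 : (C r : K⟦X⟧) * ((1 - C r⁻¹ * X) * geo r⁻¹) = X := by
      rw [h, ← mul_assoc, h1, one_mul]
    have h3 : (C r : K⟦X⟧) * (1 - C r⁻¹ * X) = C r - X := by
      rw [mul_sub, mul_one, ← mul_assoc, h1, one_mul]
    rw [← mul_assoc, h3] at h2
    linear_combination -h2

theorem good_of_splits [IsAlgClosed K] (P : Polynomial K) : Good P := by
  have h := IsAlgClosed.splits P
  rw [h.eq_prod_roots]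
  refine (good_C _).mul ?_
  induction P.roots using Multiset.induction with
  | empty => simpa using good_C (K := K) 1
  | cons a s ih =>
    rw [Multiset.map_cons, Multiset.prod_cons]
    exact (good_X_sub_C a).mul ih

end LogDeriv

section Indep

variable {K : Type*} [Field K]

/-- The value at `v` of the exponential sum attached to an element of `K[Kˣ]`. -/
noncomputable def ev (v : ℕ) : MonoidAlgebra K Kˣ →ₐ[K] K :=
  MonoidAlgebra.lift K K Kˣ ((Units.coeHom K).comp (powMonoidHom v))

theorem ev_single (v : ℕ) (a : Kˣ) (c : K) : ev v (MonoidAlgebra.single a c) = c * (a : K) ^ v := by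
  unfold ev
  rw [MonoidAlgebra.lift_single]
  simp

theorem ev_apply (v : ℕ) (x : MonoidAlgebra K Kˣ) : ev v x = x.coeff.sum fun a c => c * (a : K) ^ v := by
  unfold ev
  rw [MonoidAlgebra.lift_apply]
  refine Finset.sum_congr rfl fun a _ => ?_
  simp

theorem linearIndependent_pow : LinearIndependent K (fun (a : Kˣ) (v : ℕ) => (a : K) ^ v) := by
  have h := (linearIndependent_monoidHom (Multiplicative ℕ) K).comp
    (fun a : Kˣ => powersHom K (a : K)) (by
      intro a b hab
      have := DFunLike.congr_fun hab (Multiplicative.ofAdd 1)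
      simp only [powersHom_apply, toAdd_ofAdd, pow_one] at this
      exact Units.ext this)
  exact h

theorem eq_zero_of_ev (v0 : ℕ) (x : MonoidAlgebra K Kˣ) (h : ∀ v, v0 ≤ v → ev v x = 0) : x = 0 := by
  have hli := linearIndependent_pow (K := K)
  rw [linearIndependent_iff'] at hli
  have h1 := hli x.coeff.support (fun a => x.coeff a * (a : K) ^ v0) (by
    funext v
    rw [Finset.sum_apply]
    have := h (v0 + v) (by omega)
    rw [ev_apply] at this
    rw [Pi.zero_apply, ← this]
    refine Finset.sum_congr rfl fun a _ => ?_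
    simp only [Pi.smul_apply, smul_eq_mul]
    rw [pow_add]; ring)
  ext a
  by_cases ha : a ∈ x.coeff.support
  · have := h1 a ha
    rcases mul_eq_zero.1 this with h2 | h2
    · rw [h2]; rfl
    · exact absurd h2 (pow_ne_zero _ a.ne_zero)
  · rw [Finsupp.notMem_support_iff.1 ha]; rfl

end Indep

section Main

variable {K : Type*} [Field K] [CharZero K]

/-- The element of `K[Kˣ]` attached to a rational polynomial evaluated at `u ^ v`. -/
noncomputable def pol (u : Kˣ) (P : Polynomial ℚ) : MonoidAlgebra K Kˣ :=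
  ∑ i ∈ P.support, MonoidAlgebra.single (u ^ i) (algebraMap ℚ K (P.coeff i))

theorem ev_pol (q : ℤ) (u : Kˣ) (hu : (u : K) = q) (P : Polynomial ℚ) (v : ℕ) :
    ev v (pol u P) = algebraMap ℚ K (P.eval ((q : ℚ) ^ v)) := by
  unfold pol
  rw [map_sum, Polynomial.eval_eq_sum, Polynomial.sum, map_sum]
  refine Finset.sum_congr rfl fun i _ => ?_
  rw [ev_single, map_mul]
  congr 1
  rw [Units.val_pow_eq_pow_val, hu]
  push_cast
  rw [← pow_mul, ← pow_mul, mul_comm]
  simp

theorem pol_coeff_notMem (u : Kˣ) (P : Polynomial ℚ) (a : Kˣ) (ha : a ∉ Subgroup.zpowers u) :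
    (pol u P).coeff a = 0 := by
  classical
  unfold pol
  rw [MonoidAlgebra.coeff_sum, Finsupp.finsetSum_apply]
  refine Finset.sum_eq_zero fun i _ => ?_
  rw [MonoidAlgebra.coeff_single, Finsupp.single_apply, if_neg]
  rintro rfl
  exact ha (Subgroup.npow_mem_zpowers u i)

omit [CharZero K] in
/-- If `x` is supported on the subgroup `H` (resp. outside `H`) and `y` on `H`, then so is `x * y`. -/
theorem mul_coeff_eq_zero (H : Subgroup Kˣ) (S : Set Kˣ) (hS : ∀ a ∈ S, ∀ b ∈ H, a * b ∈ S)
    (x y : MonoidAlgebra K Kˣ) (hx : ∀ a ∉ S, x.coeff a = 0) (hy : ∀ b ∉ H, y.coeff b = 0) (c : Kˣ) (hc : c ∉ S) :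
    (x * y).coeff c = 0 := by
  classical
  by_contra h
  have h1 := MonoidAlgebra.support_coeff_mul_subset x y (Finsupp.mem_support_iff.2 h)
  obtain ⟨a, ha, b, hb, rfl⟩ := Finset.mem_mul.1 h1
  rw [Finsupp.mem_support_iff] at ha hb
  refine hc (hS a ?_ b ?_)
  · by_contra h2; exact ha (hx a h2)
  · by_contra h2; exact hb (hy b h2)

theorem exists_laurent (q : ℤ) (hq : 1 < q) (N D : Polynomial ℚ) (n : Kˣ →₀ ℤ) (v0 : ℕ)
    (h : ∀ v, v0 ≤ v → (n.sum fun a c => (c : K) * (a : K) ^ v) * algebraMap ℚ K (D.eval ((q : ℚ) ^ v)) =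
      algebraMap ℚ K (N.eval ((q : ℚ) ^ v))) :
    ∃ (P : Polynomial ℤ) (c : ℕ), N * Polynomial.X ^ c = P.map (Int.castRingHom ℚ) * D := by
  classical
  have hq0 : (q : K) ≠ 0 := by
    have : q ≠ 0 := by omega
    exact_mod_cast this
  let u : Kˣ := Units.mk0 (q : K) hq0
  have hu : (u : K) = q := rfl
  let H : Subgroup Kˣ := Subgroup.zpowers u
  let toA : (Kˣ →₀ ℤ) → MonoidAlgebra K Kˣ := fun m => ∑ a ∈ m.support, MonoidAlgebra.single a ((m a : ℤ) : K)
  have hev : ∀ (m : Kˣ →₀ ℤ) v, ev v (toA m) = m.sum fun a c => (c : K) * (a : K) ^ v := by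
    intro m v
    change ev v (∑ a ∈ m.support, _) = _
    rw [map_sum]
    exact Finset.sum_congr rfl fun a _ => ev_single v a _
  have hcoef : ∀ (m : Kˣ →₀ ℤ) a, (toA m).coeff a = ((m a : ℤ) : K) := by
    intro m a
    change (∑ a ∈ m.support, _ : MonoidAlgebra K Kˣ).coeff a = _
    rw [MonoidAlgebra.coeff_sum, Finsupp.finsetSum_apply]
    simp only [MonoidAlgebra.coeff_single, Finsupp.single_apply]
    rw [Finset.sum_ite_eq']
    split_ifs with h1
    · rfl
    · rw [Finsupp.notMem_support_iff.1 h1]; simp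
  set n1 := n.filter (· ∈ H) with hn1
  set n2 := n.filter (fun a => ¬ a ∈ H) with hn2
  have hn12 : n1 + n2 = n := Finsupp.filter_add_filter_not n _
  have hsum : ∀ v, (n.sum fun a c => (c : K) * (a : K) ^ v) = ev v (toA n1) + ev v (toA n2) := by
    intro v
    rw [hev, hev, ← Finsupp.sum_add_index' (by simp) (by intro a b c; push_cast; ring), hn12]
  have hzero : toA n2 * pol u D + (toA n1 * pol u D - pol u N) = 0 := by
    refine eq_zero_of_ev v0 _ fun v hv => ?_
    have := h v hv
    rw [hsum, ← ev_pol q u hu D v, ← ev_pol q u hu N v] at this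
    rw [map_add, map_sub, map_mul, map_mul]
    linear_combination this
  have hA1 : toA n1 * pol u D - pol u N = 0 := by
    ext c
    by_cases hc : c ∈ H
    · have h1 : (toA n2 * pol u D).coeff c = 0 := by
        refine mul_coeff_eq_zero H {a | a ∉ H} (fun a ha b hb hab => ha ?_) _ _ (fun a ha => ?_)
          (fun b hb => pol_coeff_notMem u D b hb) c (fun h => h hc)
        · exact (Subgroup.mul_mem_cancel_right H hb).1 hab
        · have ha' : ¬ a ∉ H := ha
          rw [hcoef, hn2, Finsupp.filter_apply, if_neg ha']; simp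
      have h2 := congrArg (fun x : MonoidAlgebra K Kˣ => x.coeff c) hzero
      simp only [MonoidAlgebra.coeff_add, Finsupp.add_apply] at h2
      rw [h1, zero_add] at h2
      exact h2
    · have h1 : (toA n1 * pol u D).coeff c = 0 := by
        refine mul_coeff_eq_zero H (H : Set Kˣ) (fun a ha b hb => H.mul_mem ha hb) _ _ (fun a ha => ?_)
          (fun b hb => pol_coeff_notMem u D b hb) c hc
        have ha' : ¬ a ∈ H := ha
        rw [hcoef, hn1, Finsupp.filter_apply, if_neg ha']; simp
      rw [MonoidAlgebra.coeff_sub, Finsupp.sub_apply, h1, pol_coeff_notMem u N c hc]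
      simp
  have hall : ∀ v, (n1.sum fun a c => (c : K) * (a : K) ^ v) * algebraMap ℚ K (D.eval ((q : ℚ) ^ v)) =
      algebraMap ℚ K (N.eval ((q : ℚ) ^ v)) := by
    intro v
    have := congrArg (ev v) hA1
    rw [map_sub, map_mul, map_zero, ev_pol q u hu, ev_pol q u hu, hev] at this
    linear_combination this
  -- exponents
  have hexp : ∀ a : Kˣ, ∃ j : ℤ, a ∈ H → u ^ j = a := by
    intro a
    by_cases ha : a ∈ H
    · obtain ⟨j, hj⟩ := Subgroup.mem_zpowers_iff.1 ha
      exact ⟨j, fun _ => hj⟩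
    · exact ⟨0, fun h => absurd h ha⟩
  choose j hj using hexp
  obtain ⟨c, hc⟩ : ∃ c : ℕ, ∀ a ∈ n1.support, 0 ≤ j a + c := by
    refine ⟨∑ a ∈ n1.support, (j a).natAbs, fun a ha => ?_⟩
    have h1 : (j a).natAbs ≤ ∑ a ∈ n1.support, (j a).natAbs :=
      Finset.single_le_sum (f := fun a => (j a).natAbs) (fun _ _ => Nat.zero_le _) ha
    omega
  refine ⟨∑ a ∈ n1.support, Polynomial.C (n1 a) * Polynomial.X ^ (j a + c).toNat, c, ?_⟩
  refine Polynomial.eq_of_infinite_eval_eq _ _ (Set.infinite_of_injective_forall_mem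
    (f := fun v : ℕ => (q : ℚ) ^ v) ?_ ?_)
  · exact pow_right_injective₀ (by exact_mod_cast (by omega : 0 < q)) (by exact_mod_cast (by omega : q ≠ 1))
  · intro v
    simp only [Set.mem_ofPred_eq]
    apply (algebraMap ℚ K).injective
    rw [Polynomial.eval_mul, Polynomial.eval_mul, map_mul, map_mul, ← hall v]
    have h1 : algebraMap ℚ K (Polynomial.eval ((q : ℚ) ^ v)
        (Polynomial.map (Int.castRingHom ℚ) (∑ a ∈ n1.support, Polynomial.C (n1 a) * Polynomial.X ^ (j a + c).toNat))) =
        (n1.sum fun a c => (c : K) * (a : K) ^ v) * algebraMap ℚ K (Polynomial.eval ((q : ℚ) ^ v) (Polynomial.X ^ c)) := by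
      rw [Polynomial.map_sum, Polynomial.eval_finsetSum, map_sum, Finsupp.sum, Finset.sum_mul]
      refine Finset.sum_congr rfl fun a ha => ?_
      have haH : a ∈ H := by
        by_contra h2
        rw [Finsupp.mem_support_iff, hn1, Finsupp.filter_apply, if_neg h2] at ha
        exact ha rfl
      simp only [Polynomial.map_mul, Polynomial.map_C, Polynomial.map_pow, Polynomial.map_X, Polynomial.eval_mul,
        Polynomial.eval_C, Polynomial.eval_pow, Polynomial.eval_X, map_mul, map_pow]
      simp only [eq_intCast, map_intCast]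
      have h3 : ((q : K) ^ v) ^ (j a + c).toNat = (a : K) ^ v * ((q : K) ^ v) ^ c := by
        have h4 := hc a ha
        have h5 : (a : K) = (q : K) ^ (j a) := by
          have h6 := congrArg (Units.val) (hj a haH)
          rw [Units.val_zpow_eq_zpow_val, hu] at h6
          exact h6.symm
        rw [h5, ← zpow_natCast ((q : K) ^ v) (j a + c).toNat, Int.toNat_of_nonneg h4,
          zpow_add₀ (pow_ne_zero _ hq0), zpow_natCast]
        congr 1
        rw [← zpow_natCast, ← zpow_natCast, ← zpow_mul, ← zpow_mul, mul_comm]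
      rw [h3]; ring
    rw [h1]; ring

end Main

end K221.ExpSum
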